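import Groth.Agent.SchDomLib.Univ
import Mathlib

/-! Schematically dominant families stay so after any base change over a field. -/

set_option autoImplicit false
set_option linter.style.haveILetI false

universe u v

open TensorProduct SchDomLib

noncomputable section

namespace SchDomFieldLib

/-- The elements some power of which kills `b`. -/
def annRad {R : Type u} [CommRing R] (b : R) : Ideal R :=
  Ideal.radical (LinearMap.ker (LinearMap.toSpanSingleton R R b))

theorem exists_pow_mul_eq_zero_of_mem_radical {R : Type u} [CommRing R] {g b : R}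
    (h : g ∈ annRad b) : ∃ m : ℕ, g ^ m * b = 0 :=
  h

theorem mem_radical_of {R : Type u} [CommRing R] {g b : R} {m : ℕ} (h : g ^ m * b = 0) :
    g ∈ annRad b :=
  ⟨m, h⟩

section polynomial

variable {J : Type v} {B : Type u} [CommRing B] {C : J → Type u} [∀ j, CommRing (C j)] {φ : ∀ j, B →+* C j}

open Polynomial in
theorem coeff_kill {R : Type u} [CommRing R] (G b : R[X]) (m : ℕ) (h : G ^ m * b = 0) (i j : ℕ) :
    ∃ N : ℕ, G.coeff i ^ N * b.coeff j = 0 := by
  let L := Localization.Away (G.coeff i)
  let f := Polynomial.mapRingHom (algebraMap R L)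
  have hG : f G ∈ nonZeroDivisors L[X] := by
    refine Polynomial.mem_nonzeroDivisors_of_coeff_mem i ?_
    rw [Polynomial.coe_mapRingHom, Polynomial.coeff_map]
    exact (IsLocalization.Away.algebraMap_isUnit (G.coeff i)).mem_nonZeroDivisors
  have hb : f b = 0 := by
    refine (mul_right_mem_nonZeroDivisors_eq_zero_iff (pow_mem hG m)).1 ?_
    rw [mul_comm, ← map_pow, ← map_mul, h, map_zero]
  have hc := congrArg (fun q => Polynomial.coeff q j) hb
  simp only [f, Polynomial.coe_mapRingHom, Polynomial.coeff_map, Polynomial.coeff_zero] at hc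
  obtain ⟨⟨_, N, rfl⟩, hN⟩ := (IsLocalization.map_eq_zero_iff (Submonoid.powers (G.coeff i)) L _).1 hc
  exact ⟨N, hN⟩

open Polynomial in
theorem dom_polynomial (h : Dom φ) : Dom fun l => Polynomial.mapRingHom (φ l) := by
  intro G b hGb
  have key : ∀ i j, ∃ N : ℕ, G.coeff i ^ N * b.coeff j = 0 := fun i j => h _ _ fun l => by
    obtain ⟨m, hm⟩ := hGb l
    rw [map_mul, map_pow] at hm
    obtain ⟨N, hN⟩ := coeff_kill _ _ m hm i j
    exact ⟨N, by simpa [Polynomial.coeff_map] using hN⟩
  choose N hN using key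
  refine exists_pow_mul_eq_zero_of_mem_radical ?_
  rw [G.as_sum_support]
  refine Ideal.sum_mem _ fun i _ => ?_
  rw [← Polynomial.C_mul_X_pow_eq_monomial]
  refine Ideal.mul_mem_right _ _ (mem_radical_of (m := b.support.sup (N i)) ?_)
  ext j
  rw [← map_pow, Polynomial.coeff_C_mul, Polynomial.coeff_zero]
  by_cases hj : j ∈ b.support
  · obtain ⟨d, hd⟩ := Nat.exists_eq_add_of_le (Finset.le_sup (f := N i) hj)
    rw [hd, pow_add, mul_right_comm, hN, zero_mul]
  · rw [Polynomial.notMem_support_iff.1 hj, mul_zero]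

theorem dom_mvPolynomial (h : Dom φ) : ∀ n : ℕ, Dom fun l => MvPolynomial.map (σ := Fin n) (φ l)
  | 0 => h.of_equiv (MvPolynomial.isEmptyRingEquiv B (Fin 0)).symm
      (fun l => (MvPolynomial.isEmptyRingEquiv (C l) (Fin 0)).symm) fun l b => by
        rw [MvPolynomial.isEmptyRingEquiv_symm_apply, MvPolynomial.isEmptyRingEquiv_symm_apply, MvPolynomial.map_C]
  | n + 1 => (dom_polynomial (dom_mvPolynomial h n)).of_equiv (MvPolynomial.finSuccEquiv B n).toRingEquiv.symm
      (fun l => (MvPolynomial.finSuccEquiv (C l) n).toRingEquiv.symm) fun l q => by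
        obtain ⟨p, rfl⟩ := (MvPolynomial.finSuccEquiv B n).surjective q
        apply (MvPolynomial.finSuccEquiv (C l) n).injective
        show MvPolynomial.finSuccEquiv (C l) n ((MvPolynomial.finSuccEquiv (C l) n).symm
            (Polynomial.mapRingHom (MvPolynomial.map (φ l)) (MvPolynomial.finSuccEquiv B n p))) =
          MvPolynomial.finSuccEquiv (C l) n (MvPolynomial.map (φ l)
            ((MvPolynomial.finSuccEquiv B n).symm (MvPolynomial.finSuccEquiv B n p)))
        rw [AlgEquiv.apply_symm_apply, AlgEquiv.symm_apply_apply]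
        induction p using MvPolynomial.induction_on with
        | C a => simp [MvPolynomial.finSuccEquiv_apply]
        | add p q hp hq => simp only [map_add, hp, hq]
        | mul_X p i hp =>
          simp only [map_mul, hp, MvPolynomial.map_X]
          congr 1
          refine Fin.cases ?_ (fun j => ?_) i
          · simp [MvPolynomial.finSuccEquiv_X_zero]
          · simp [MvPolynomial.finSuccEquiv_X_succ]

end polynomial

/-- The statement for an integral element: scalars detect. -/
theorem exists_pow_mul_eq_zero_of_integral {J : Type v} {B R : Type u} [CommRing B] [CommRing R] [Algebra B R]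
    {D : J → Type u} [∀ j, CommRing (D j)] (ψ : ∀ j, R →+* D j)
    (H : ∀ (a : B) (b : R), (∀ j, ∃ m : ℕ, ψ j (algebraMap B R a ^ m * b) = 0) →
      ∃ m : ℕ, algebraMap B R a ^ m * b = 0)
    (g : R) : ∀ (n : ℕ) (p : Polynomial B), p.coeff n = 1 → p.natDegree ≤ n → ∀ b : R,
      (∀ j, ∃ m : ℕ, ψ j (g ^ m * b) = 0) → (∃ m : ℕ, p.aeval g ^ m * b = 0) → ∃ m : ℕ, g ^ m * b = 0
  | 0, p, hp1, hpd, b, _, ⟨m, hm⟩ => ⟨0, by
      rw [Polynomial.eq_C_of_natDegree_le_zero hpd, hp1] at hm
      simpa using hm⟩
  | n + 1, p, hp1, hpd, b, hb, ⟨m, hm⟩ => by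
      set q := p.divX with hq
      have hpg : p.aeval g = g * q.aeval g + algebraMap B R (p.coeff 0) := by
        have := congrArg (Polynomial.aeval g) (Polynomial.X_mul_divX_add p)
        rw [map_add, map_mul, Polynomial.aeval_X, Polynomial.aeval_C] at this
        exact this.symm
      have ha : ∀ j, ∃ N : ℕ, ψ j (algebraMap B R (p.coeff 0) ^ N * b) = 0 := by
        intro j
        obtain ⟨m', hm'⟩ := hb j
        have h1 : ψ j (algebraMap B R (p.coeff 0)) ∈
            annRad (ψ j b) := by
          have hs : ψ j (p.aeval g) ∈ annRad (ψ j b) :=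
            mem_radical_of (m := m) (by rw [← map_pow, ← map_mul, hm, map_zero])
          have hg : ψ j g ∈ annRad (ψ j b) :=
            mem_radical_of (m := m') (by rw [← map_pow, ← map_mul, hm'])
          rw [show algebraMap B R (p.coeff 0) = p.aeval g - g * q.aeval g by rw [hpg]; ring, map_sub, map_mul]
          exact Ideal.sub_mem _ hs (Ideal.mul_mem_right _ _ hg)
        obtain ⟨N, hN⟩ := exists_pow_mul_eq_zero_of_mem_radical h1
        exact ⟨N, by rw [map_mul, map_pow, hN]⟩
      obtain ⟨M, hM⟩ := H _ _ ha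
      obtain ⟨N, hN⟩ : ∃ N : ℕ, (g * q.aeval g) ^ N * b = 0 := by
        refine exists_pow_mul_eq_zero_of_mem_radical ?_
        rw [show g * q.aeval g = p.aeval g - algebraMap B R (p.coeff 0) by rw [hpg]; ring]
        exact Ideal.sub_mem _ (mem_radical_of hm) (mem_radical_of hM)
      obtain ⟨k, hk⟩ := exists_pow_mul_eq_zero_of_integral ψ H g n q
        (by rw [hq, Polynomial.coeff_divX]; exact hp1) (by rw [hq, Polynomial.natDegree_divX_eq_natDegree_tsub_one]; omega)
        (g ^ N * b) (fun j => by
          obtain ⟨m', hm'⟩ := hb j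
          exact ⟨m', by rw [mul_left_comm, map_mul, hm', mul_zero]⟩)
        ⟨N, by rw [← hN, mul_pow]; ring⟩
      exact ⟨k + N, by rw [pow_add, mul_assoc, hk]⟩

section field

variable {J : Type v} {k B : Type u} [Field k] [CommRing B] [Algebra k B] {C : J → Type u}
  [∀ j, CommRing (C j)] [∀ j, Algebra k (C j)] (u : ∀ j, B →ₐ[k] C j)

theorem dom_integral (h : Dom fun j => (u j).toRingHom) (T : Type u) [CommRing T] [Algebra k T]
    [Algebra.IsIntegral k T] : Dom fun j => (bc u T j).toRingHom := by
  classical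
  intro g b hb
  letI : Algebra B (T ⊗[k] B) := Algebra.TensorProduct.rightAlgebra
  obtain ⟨β⟩ : Nonempty (Σ ι : Type u, Module.Basis ι k T) := ⟨⟨_, Module.Basis.ofVectorSpace k T⟩⟩
  have hnat : ∀ (j : J) (a : B) (z : T ⊗[k] B) (i : β.1),
      TensorProduct.equivFinsuppOfBasisLeft β.2 (bc u T j (((1 : T) ⊗ₜ[k] a) * z)) i =
        u j (a * TensorProduct.equivFinsuppOfBasisLeft β.2 z i) := by
    intro j a z i
    induction z using TensorProduct.induction_on with
    | zero => simp
    | tmul t x => simp [bc, TensorProduct.equivFinsuppOfBasisLeft_apply_tmul_apply]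
    | add x y hx hy => simp only [mul_add, map_add, Finsupp.add_apply, hx, hy]
  have hrep : ∀ (a : B) (z : T ⊗[k] B) (i : β.1),
      TensorProduct.equivFinsuppOfBasisLeft β.2 (((1 : T) ⊗ₜ[k] a) * z) i =
        a * TensorProduct.equivFinsuppOfBasisLeft β.2 z i := by
    intro a z i
    induction z using TensorProduct.induction_on with
    | zero => simp
    | tmul t x => simp [TensorProduct.equivFinsuppOfBasisLeft_apply_tmul_apply]
    | add x y hx hy => simp only [mul_add, map_add, Finsupp.add_apply, hx, hy]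
  have halg : ∀ a : B, algebraMap B (T ⊗[k] B) a = (1 : T) ⊗ₜ a := fun a => rfl
  have hpow : ∀ (a : B) (m : ℕ), algebraMap B (T ⊗[k] B) a ^ m = (1 : T) ⊗ₜ (a ^ m) := fun a m => by
    rw [← map_pow, halg]
  have hint : IsIntegral B g := by
    clear hb
    induction g using TensorProduct.induction_on with
    | zero => exact isIntegral_zero
    | tmul t x =>
      rw [show t ⊗ₜ[k] x = (t ⊗ₜ[k] (1 : B)) * algebraMap B (T ⊗[k] B) x by
        rw [halg, Algebra.TensorProduct.tmul_mul_tmul, mul_one, one_mul]]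
      refine IsIntegral.mul ?_ isIntegral_algebraMap
      obtain ⟨p, hp, hpt⟩ := Algebra.IsIntegral.isIntegral (R := k) t
      refine ⟨p.map (algebraMap k B), hp.map _, ?_⟩
      rw [Polynomial.eval₂_map]
      have e : (algebraMap B (T ⊗[k] B)).comp (algebraMap k B) =
          (Algebra.TensorProduct.includeLeftRingHom : T →+* T ⊗[k] B).comp (algebraMap k T) := by
        ext a
        simp only [RingHom.comp_apply, halg, Algebra.TensorProduct.includeLeftRingHom_apply]
        rw [Algebra.algebraMap_eq_smul_one, Algebra.algebraMap_eq_smul_one, TensorProduct.smul_tmul]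
      rw [e, show t ⊗ₜ[k] (1 : B) = (Algebra.TensorProduct.includeLeftRingHom : T →+* T ⊗[k] B) t from rfl,
        ← Polynomial.hom_eval₂, hpt, map_zero]
    | add x y hx hy => exact hx.add hy
  obtain ⟨p, hp, hpg⟩ := hint
  refine exists_pow_mul_eq_zero_of_integral (fun j => (bc u T j).toRingHom) ?_ g p.natDegree p hp le_rfl b hb
    ⟨1, by rw [Polynomial.aeval_def, hpg]; simp⟩
  intro a z hz
  have hi : ∀ i, ∃ m : ℕ, a ^ m * TensorProduct.equivFinsuppOfBasisLeft β.2 z i = 0 := fun i => h _ _ fun j => by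
    obtain ⟨m, hm⟩ := hz j
    refine ⟨m, ?_⟩
    have := hnat j (a ^ m) z i
    rw [← hpow] at this
    rw [show bc u T j (algebraMap B (T ⊗[k] B) a ^ m * z) = 0 from hm] at this
    simpa using this.symm
  choose m hm using hi
  let s := (TensorProduct.equivFinsuppOfBasisLeft β.2 z).support
  refine ⟨s.sup m, (TensorProduct.equivFinsuppOfBasisLeft β.2).injective ?_⟩
  ext i
  rw [hpow, hrep, map_zero, Finsupp.zero_apply]
  by_cases his : i ∈ s
  · obtain ⟨d, hd⟩ := Nat.exists_eq_add_of_le (Finset.le_sup (f := m) his)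
    rw [hd, pow_add, mul_right_comm, hm, zero_mul]
  · rw [Finsupp.notMem_support_iff.1 his, mul_zero]

theorem dom_of_injective {T T' : Type u} [CommRing T] [Algebra k T] [CommRing T'] [Algebra k T'] (θ : T →ₐ[k] T')
    (hθ : Function.Injective θ) (h : Dom fun j => (bc u T' j).toRingHom) : Dom fun j => (bc u T j).toRingHom := by
  intro g b hb
  let ι := Algebra.TensorProduct.map θ (AlgHom.id k B)
  have hι : Function.Injective ι :=
    Module.Flat.rTensor_preserves_injective_linearMap θ.toLinearMap hθ
  obtain ⟨m, hm⟩ := h (ι g) (ι b) fun j => by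
    obtain ⟨m, hm⟩ := hb j
    refine ⟨m, ?_⟩
    show bc u T' j (ι g ^ m * ι b) = 0
    rw [← map_pow, ← map_mul, bc_map u θ j]
    exact (congrArg _ hm).trans (map_zero _)
  exact ⟨m, hι (by rw [map_mul, map_pow, hm, map_zero])⟩

theorem dom_poly (h : Dom fun j => (u j).toRingHom) (n : ℕ) :
    Dom fun j => (bc u (MvPolynomial (Fin n) k) j).toRingHom := by
  refine (dom_mvPolynomial h n).of_equiv
    ((Algebra.TensorProduct.comm k _ B).trans
      ((MvPolynomial.algebraTensorAlgEquiv (σ := Fin n) k B).restrictScalars k)).toRingEquiv.symm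
    (fun j => ((Algebra.TensorProduct.comm k _ (C j)).trans
      ((MvPolynomial.algebraTensorAlgEquiv (σ := Fin n) k (C j)).restrictScalars k)).toRingEquiv.symm)
    fun j p => ?_
  show AlgEquiv.symm _ _ = bc u _ j (AlgEquiv.symm _ _)
  rw [AlgEquiv.symm_apply_eq]
  obtain ⟨z, rfl⟩ := ((Algebra.TensorProduct.comm k _ B).trans
      ((MvPolynomial.algebraTensorAlgEquiv (σ := Fin n) k B).restrictScalars k)).surjective p
  rw [AlgEquiv.symm_apply_apply]
  induction z using TensorProduct.induction_on with
  | zero => simp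
  | tmul q x =>
    simp only [AlgEquiv.trans_apply, Algebra.TensorProduct.comm_tmul, AlgEquiv.restrictScalars_apply,
      MvPolynomial.algebraTensorAlgEquiv_tmul, MvPolynomial.smul_eq_C_mul, map_mul, MvPolynomial.map_C,
      MvPolynomial.map_map, AlgHom.toRingHom_eq_coe, AlgHom.comp_algebraMap, bc, RingHom.coe_coe,
      Algebra.TensorProduct.map_tmul, AlgHom.id_apply]
  | add x y hx hy => simp only [map_add, hx, hy]

/-- Localisation step. -/
theorem dom_fractionRing (P : Type u) [CommRing P] [IsDomain P] [Algebra k P] (L : Type u) [CommRing L] [Algebra P L]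
    [IsFractionRing P L] [Algebra k L] [IsScalarTower k P L] (h : Dom fun j => (bc u P j).toRingHom) :
    Dom fun j => (bc u L j).toRingHom := by
  let θ : P →ₐ[k] L := IsScalarTower.toAlgHom k P L
  let ι : ∀ (D : Type u) [CommRing D] [Algebra k D], P ⊗[k] D →ₐ[k] L ⊗[k] D := fun D _ _ =>
    Algebra.TensorProduct.map θ (AlgHom.id k D)
  have hlift : ∀ z : L ⊗[k] B, ∃ (s : nonZeroDivisors P) (w : P ⊗[k] B),
      ι B w = (algebraMap P L s ⊗ₜ[k] (1 : B)) * z := by
    intro z
    induction z using TensorProduct.induction_on with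
    | zero => exact ⟨1, 0, by simp⟩
    | tmul t x =>
      obtain ⟨⟨a, s⟩, hs⟩ := IsLocalization.surj (nonZeroDivisors P) t
      exact ⟨s, a ⊗ₜ x, by simp [ι, θ, ← hs, mul_comm]⟩
    | add x y hx hy =>
      obtain ⟨s, w, hw⟩ := hx
      obtain ⟨t, w', hw'⟩ := hy
      refine ⟨s * t, ((t : P) ⊗ₜ 1) * w + ((s : P) ⊗ₜ 1) * w', ?_⟩
      rw [map_add, map_mul, map_mul, hw, hw', mul_add]
      simp only [ι, θ, Algebra.TensorProduct.map_tmul, AlgHom.id_apply, IsScalarTower.coe_toAlgHom',
        ← mul_assoc, Algebra.TensorProduct.tmul_mul_tmul, mul_one, Submonoid.coe_mul, map_mul]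
      rw [mul_comm (algebraMap P L t)]
  have hu : ∀ (s : nonZeroDivisors P) (D : Type u) [CommRing D] [Algebra k D],
      IsUnit ((algebraMap P L s) ⊗ₜ[k] (1 : D)) := fun s D _ _ =>
    (IsLocalization.map_units L s).map (Algebra.TensorProduct.includeLeftRingHom : L →+* L ⊗[k] D)
  have hinj : ∀ (D : Type u) [CommRing D] [Algebra k D], Function.Injective (ι D) := fun D _ _ =>
    Module.Flat.rTensor_preserves_injective_linearMap θ.toLinearMap (IsFractionRing.injective P L)
  intro g b hb
  obtain ⟨s, g', hg⟩ := hlift g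
  obtain ⟨t, b', hb'⟩ := hlift b
  obtain ⟨m, hm⟩ := h g' b' fun j => by
    obtain ⟨m, hm⟩ := hb j
    refine ⟨m, hinj (C j) ?_⟩
    show ι (C j) (bc u P j (g' ^ m * b')) = ι (C j) 0
    rw [map_zero, ← bc_map u θ j, map_mul, map_pow, hg, hb', mul_pow, mul_mul_mul_comm, map_mul,
      show bc u L j (g ^ m * b) = 0 from hm, mul_zero]
  refine ⟨m, ?_⟩
  have h0 := congrArg (ι B) hm
  rw [map_zero, map_mul, map_pow, hg, hb', mul_pow, mul_mul_mul_comm] at h0
  exact (((hu s B).pow m).mul (hu t B)).mul_right_eq_zero.1 h0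

/-- Integral extensions of field extensions. -/
theorem dom_integral' (L : Type u) [Field L] [Algebra k L] (h : Dom fun j => (bc u L j).toRingHom)
    (K : Type u) [CommRing K] [Algebra k K] [Algebra L K] [IsScalarTower k L K] [Algebra.IsIntegral L K] :
    Dom fun j => (bc u K j).toRingHom := by
  have hk := dom_integral (bc u L) h K
  refine hk.of_equiv (Algebra.TensorProduct.cancelBaseChange k L K K B).toRingEquiv
    (fun j => (Algebra.TensorProduct.cancelBaseChange k L K K (C j)).toRingEquiv) fun j z => ?_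
  induction z using TensorProduct.induction_on with
  | zero => simp
  | tmul t x =>
    induction x using TensorProduct.induction_on with
    | zero => simp [bc]
    | tmul c b => simp [bc]
    | add x y hx hy =>
      simp only [TensorProduct.tmul_add, map_add, hx, hy]
  | add z w hz hw => simp only [map_add, hz, hw]

theorem dom_domain (h : Dom fun j => (u j).toRingHom) (T : Type u) [CommRing T] [IsDomain T] [Algebra k T]
    [Algebra.FiniteType k T] : Dom fun j => (bc u T j).toRingHom := by
  obtain ⟨n, ν, hν, hfin⟩ := exists_finite_inj_algHom_of_fg k T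
  let P := MvPolynomial (Fin n) k
  let L := FractionRing P
  letI : Algebra P T := ν.toRingHom.toAlgebra
  haveI : Module.Finite P T := hfin
  haveI : IsScalarTower k P T := IsScalarTower.of_algebraMap_eq' ν.comp_algebraMap.symm
  haveI : FaithfulSMul P T := (faithfulSMul_iff_algebraMap_injective P T).2 hν
  haveI : Algebra.IsIntegral L (L ⊗[P] T) := Algebra.IsIntegral.of_finite L _
  refine dom_of_injective u ((Algebra.TensorProduct.includeRight : T →ₐ[P] L ⊗[P] T).restrictScalars k) ?_
    (dom_integral' u L (dom_fractionRing u P L (dom_poly u h n)) _)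
  haveI : IsLocalizedModule (nonZeroDivisors P) (TensorProduct.mk P L T 1) :=
    IsLocalization.tensorProduct_isLocalizedModule _ _
  rw [injective_iff_map_eq_zero]
  intro x hx
  obtain ⟨s, hs⟩ := (IsLocalizedModule.eq_zero_iff (nonZeroDivisors P) (TensorProduct.mk P L T 1)).1 hx
  rw [Submonoid.smul_def, Algebra.smul_def] at hs
  exact (mul_eq_zero.1 hs).resolve_left fun h0 => nonZeroDivisors.coe_ne_zero s ((map_eq_zero_iff _ hν).1 h0)

theorem dom_finiteType (h : Dom fun j => (u j).toRingHom) (T : Type u) [CommRing T] [Algebra k T]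
    [Algebra.FiniteType k T] : Dom fun j => (bc u T j).toRingHom := by
  haveI : IsNoetherianRing T := Algebra.FiniteType.isNoetherianRing k T
  suffices H : ∀ I : Ideal T, Dom fun j => (bc u (T ⧸ I) j).toRingHom by
    exact dom_of_injective u (Ideal.Quotient.mkₐ k (⊥ : Ideal T))
      ((injective_iff_map_eq_zero _).2 fun x hx => Ideal.mem_bot.1 (Ideal.Quotient.eq_zero_iff_mem.1 hx)) (H ⊥)
  intro I
  induction I using IsWellFounded.induction (α := Ideal T) (· > ·) with
  | _ I IH =>
    by_cases htop : I = ⊤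
    · subst htop
      haveI : Subsingleton (T ⧸ (⊤ : Ideal T)) := Ideal.Quotient.subsingleton_iff.2 rfl
      haveI : Subsingleton ((T ⧸ (⊤ : Ideal T)) ⊗[k] B) := inferInstance
      exact fun g b _ => ⟨0, Subsingleton.elim _ _⟩
    by_cases hI : I.IsPrime
    · haveI := hI
      haveI : Algebra.FiniteType k (T ⧸ I) :=
        Algebra.FiniteType.of_surjective (Ideal.Quotient.mkₐ k I) (Ideal.Quotient.mkₐ_surjective k I)
      exact dom_domain u h _
    obtain ⟨x, hx, y, hy, hxy⟩ : ∃ x, x ∉ I ∧ ∃ y, y ∉ I ∧ x * y ∈ I := by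
      by_contra! hcon
      exact hI ⟨htop, fun {a c} hac => by
        by_contra! hn
        exact hcon a hn.1 c hn.2 hac⟩
    let I₁ := I ⊔ Ideal.span {y}
    let I₂ : Ideal T := Submodule.comap (LinearMap.mulLeft T y) I
    have h₁ : I < I₁ := lt_of_le_of_ne le_sup_left fun e =>
      hy (e.symm ▸ Ideal.mem_sup_right (Ideal.mem_span_singleton_self y))
    have h₂ : I < I₂ := by
      refine lt_of_le_of_ne (fun a ha => Ideal.mul_mem_left I y ha) fun e => hx (e.symm ▸ ?_)
      show y * x ∈ I
      rwa [mul_comm]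
    let ρ : (T ⧸ I) →ₐ[k] T ⧸ I₁ := Ideal.Quotient.factorₐ k le_sup_left
    let μ : (T ⧸ I₂) →ₗ[k] T ⧸ I :=
      (Submodule.mapQ I₂ I (LinearMap.mulLeft T y) le_rfl).restrictScalars k
    have hμ : ∀ a, μ (Ideal.Quotient.mk I₂ a) = Ideal.Quotient.mk I (y * a) := fun a => rfl
    have hμinj : Function.Injective μ := by
      rw [injective_iff_map_eq_zero]
      intro z hz
      obtain ⟨a, rfl⟩ := Ideal.Quotient.mk_surjective z
      rw [hμ, Ideal.Quotient.eq_zero_iff_mem] at hz
      exact Ideal.Quotient.eq_zero_iff_mem.2 hz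
    have hex : Function.Exact μ ρ.toLinearMap := by
      intro z
      obtain ⟨a, rfl⟩ := Ideal.Quotient.mk_surjective z
      show Ideal.Quotient.factor le_sup_left (Ideal.Quotient.mk I a) = 0 ↔ _
      rw [Ideal.Quotient.factor_mk, Ideal.Quotient.eq_zero_iff_mem]
      constructor
      · intro ha
        obtain ⟨i, hi, w, hw, hiw⟩ := Submodule.mem_sup.1 ha
        obtain ⟨c, rfl⟩ := Ideal.mem_span_singleton'.1 hw
        refine ⟨Ideal.Quotient.mk I₂ c, ?_⟩
        rw [hμ, Ideal.Quotient.eq, ← hiw, show y * c - (i + c * y) = -i by ring]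
        exact I.neg_mem hi
      · rintro ⟨z', hz'⟩
        obtain ⟨c, rfl⟩ := Ideal.Quotient.mk_surjective z'
        rw [hμ, Ideal.Quotient.eq] at hz'
        rw [show a = -(y * c - a) + c * y by ring]
        exact Submodule.add_mem_sup (I.neg_mem hz') (Ideal.mul_mem_left _ c (Ideal.mem_span_singleton_self y))
    have hrs : Function.Surjective ρ := Ideal.Quotient.factor_surjective (le_sup_left : I ≤ I₁)
    intro g b hb
    let π₁ := Algebra.TensorProduct.map ρ (AlgHom.id k B)
    let q₂ : T ⧸ I →ₐ[k] T ⧸ I₂ := Ideal.Quotient.factorₐ k h₂.le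
    have hμq : ∀ (D : Type u) [CommRing D] [Algebra k D] (a : (T ⧸ I) ⊗[k] D) (c : (T ⧸ I₂) ⊗[k] D),
        μ.rTensor D (Algebra.TensorProduct.map q₂ (AlgHom.id k D) a * c) = a * μ.rTensor D c := by
      intro D _ _ a c
      induction a using TensorProduct.induction_on with
      | zero => simp
      | tmul t d =>
        induction c using TensorProduct.induction_on with
        | zero => simp
        | tmul t' d' =>
          obtain ⟨a₀, rfl⟩ := Ideal.Quotient.mk_surjective t
          obtain ⟨c₀, rfl⟩ := Ideal.Quotient.mk_surjective t'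
          simp only [Algebra.TensorProduct.map_tmul, Algebra.TensorProduct.tmul_mul_tmul, AlgHom.id_apply,
            LinearMap.rTensor_tmul]
          rw [show q₂ (Ideal.Quotient.mk I a₀) = Ideal.Quotient.mk I₂ a₀ from rfl, ← map_mul, hμ, hμ, ← map_mul]
          rw [mul_left_comm]
        | add x y hx hy => simp only [mul_add, map_add, hx, hy]
      | add x y hx hy => simp only [add_mul, map_add, hx, hy]
    obtain ⟨m, hm⟩ := IH I₁ h₁ (π₁ g) (π₁ b) fun j => by
      obtain ⟨m, hm⟩ := hb j
      refine ⟨m, ?_⟩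
      show bc u (T ⧸ I₁) j (π₁ g ^ m * π₁ b) = 0
      rw [← map_pow, ← map_mul, bc_map u ρ j, show bc u (T ⧸ I) j (g ^ m * b) = 0 from hm, map_zero]
    have hmem : π₁ (g ^ m * b) = 0 := by rw [map_mul, map_pow, hm]
    obtain ⟨c, hc⟩ := (rTensor_exact B hex hrs (g ^ m * b)).1 hmem
    obtain ⟨M, hM⟩ := IH I₂ h₂ (Algebra.TensorProduct.map q₂ (AlgHom.id k B) g) c fun j => by
      obtain ⟨m', hm'⟩ := hb j
      refine ⟨m', Module.Flat.rTensor_preserves_injective_linearMap (M := C j) μ hμinj ?_⟩
      show μ.rTensor (C j) (bc u (T ⧸ I₂) j _) = μ.rTensor (C j) 0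
      have hnat : ∀ w, μ.rTensor (C j) (bc u (T ⧸ I₂) j w) = bc u (T ⧸ I) j (μ.rTensor B w) := by
        intro w
        induction w using TensorProduct.induction_on with
        | zero => simp
        | tmul t x => simp [bc]
        | add x y hx hy => simp only [map_add, hx, hy]
      rw [map_zero, hnat, ← map_pow, hμq, hc, mul_left_comm, map_mul,
        show bc u (T ⧸ I) j (g ^ m' * b) = 0 from hm', mul_zero]
    refine ⟨M + m, ?_⟩
    rw [pow_add, mul_assoc, ← hc, ← hμq, map_pow, hM, map_zero]

/-- Schematic dominance over a field is universal. -/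
theorem dom_univ (h : Dom fun j => (u j).toRingHom) (T : Type u) [CommRing T] [Algebra k T] :
    Dom fun j => (bc u T j).toRingHom :=
  dom_of_fg u T fun T₁ hT₁ =>
    haveI : Algebra.FiniteType k T₁ := T₁.fg_iff_finiteType.1 hT₁
    dom_finiteType u h T₁

end field

end SchDomFieldLib
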